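import Cfsg.Agent.Lib.Dickson.KB

/-! Completions for the triangle groups `(2,3,3)`, `(2,3,4)`, `(2,3,5)`. -/

set_option autoImplicit false
set_option maxRecDepth 100000

namespace CfsgLib.Present

def R0A4 : RR 3 := [([0, 0], []), ([1, 2], []), ([2, 1], []), ([1, 1], [2]), ([2, 2], [1]), ([0, 1, 0, 1, 0, 1], [])]

def csA4 : List (ℕ × ℕ × ℕ × Bool) := [(0, 5, 1, true), (5, 1, 1, false), (0, 7, 1, true), (2, 6, 1, true), (5, 7, 2, false), (6, 6, 1, true), (3, 8, 1, true), (3, 11, 1, false), (9, 3, 1, false), (11, 3, 1, true)]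

def TA4 : List (Word 3) := [[], [0], [1], [2], [0, 1], [0, 2], [1, 0], [2, 0], [0, 1, 0], [0, 2, 0], [1, 0, 2], [2, 0, 1]]

theorem chkA4 : closedT (runKB R0A4 csA4) TA4 = true := by decide +kernel

theorem lenA4 : TA4.length = 12 := by decide +kernel

def R0S4 : RR 3 := [([0, 0], []), ([1, 2], []), ([2, 1], []), ([1, 1], [2]), ([2, 2], [1]), ([0, 1, 0, 1, 0, 1, 0, 1], [])]

def csS4 : List (ℕ × ℕ × ℕ × Bool) := [(0, 5, 1, true), (5, 1, 1, false), (0, 7, 1, true), (2, 6, 1, true), (5, 7, 2, true), (6, 6, 1, true), (6, 7, 2, true), (7, 6, 2, false), (3, 11, 1, true), (3, 12, 1, false), (13, 10, 1, true), (0, 16, 1, true), (13, 14, 2, false), (14, 3, 1, false)]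

def TS4 : List (Word 3) := [[], [0], [1], [2], [0, 1], [0, 2], [1, 0], [2, 0], [0, 1, 0], [0, 2, 0], [1, 0, 1], [1, 0, 2], [2, 0, 1], [2, 0, 2], [0, 1, 0, 1], [0, 1, 0, 2], [0, 2, 0, 1], [0, 2, 0, 2], [1, 0, 2, 0], [2, 0, 1, 0], [0, 1, 0, 2, 0], [0, 2, 0, 1, 0], [1, 0, 2, 0, 1], [0, 1, 0, 2, 0, 1]]

theorem chkS4 : closedT (runKB R0S4 csS4) TS4 = true := by decide +kernel

theorem lenS4 : TS4.length = 24 := by decide +kernel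

def R0A5 : RR 3 := [([0, 0], []), ([1, 2], []), ([2, 1], []), ([1, 1], [2]), ([2, 2], [1]), ([0, 1, 0, 1, 0, 1, 0, 1, 0, 1], [])]

def csA5 : List (ℕ × ℕ × ℕ × Bool) := [(0, 5, 1, true), (5, 1, 1, false), (0, 7, 1, true), (2, 6, 1, true), (5, 7, 2, true), (6, 6, 1, true), (6, 7, 2, true), (7, 6, 2, true), (7, 7, 3, false), (0, 13, 1, true), (3, 12, 1, true), (13, 3, 1, false), (0, 17, 1, false), (3, 15, 1, false), (14, 16, 1, false), (1, 20, 1, false), (4, 20, 1, true), (16, 18, 1, false), (16, 19, 2, false), (17, 18, 2, true), (17, 19, 3, true), (17, 22, 3, false), (21, 22, 6, false)]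

def TA5 : List (Word 3) := [[], [0], [1], [2], [0, 1], [0, 2], [1, 0], [2, 0], [0, 1, 0], [0, 2, 0], [1, 0, 1], [1, 0, 2], [2, 0, 1], [2, 0, 2], [0, 1, 0, 1], [0, 1, 0, 2], [0, 2, 0, 1], [0, 2, 0, 2], [1, 0, 1, 0], [1, 0, 2, 0], [2, 0, 1, 0], [2, 0, 2, 0], [0, 1, 0, 1, 0], [0, 1, 0, 2, 0], [0, 2, 0, 1, 0], [0, 2, 0, 2, 0], [1, 0, 1, 0, 2], [1, 0, 2, 0, 1], [1, 0, 2, 0, 2], [2, 0, 1, 0, 1], [2, 0, 1, 0, 2], [2, 0, 2, 0, 1], [0, 1, 0, 2, 0, 1], [0, 1, 0, 2, 0, 2], [0, 2, 0, 1, 0, 1], [0, 2, 0, 1, 0, 2], [1, 0, 1, 0, 2, 0], [1, 0, 2, 0, 1, 0], [2, 0, 1, 0, 2, 0], [2, 0, 2, 0, 1, 0], [0, 1, 0, 2, 0, 1, 0], [0, 2, 0, 1, 0, 2, 0], [1, 0, 1, 0, 2, 0, 1], [1, 0, 1, 0, 2, 0, 2], [1, 0, 2, 0, 1, 0, 1], [1, 0, 2, 0, 1, 0, 2], [2, 0, 1, 0, 2, 0, 1], [2, 0, 1, 0, 2, 0, 2], [2, 0, 2, 0, 1, 0, 1], [2, 0, 2, 0, 1, 0, 2], [0, 1, 0, 2, 0, 1,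 0, 1], [0, 1, 0, 2, 0, 1, 0, 2], [0, 2, 0, 1, 0, 2, 0, 1], [0, 2, 0, 1, 0, 2, 0, 2], [1, 0, 2, 0, 1, 0, 2, 0], [2, 0, 1, 0, 2, 0, 1, 0], [0, 1, 0, 2, 0, 1, 0, 2, 0], [0, 2, 0, 1, 0, 2, 0, 1, 0], [1, 0, 2, 0, 1, 0, 2, 0, 1], [0, 1, 0, 2, 0, 1, 0, 2, 0, 1]]

theorem chkA5 : closedT (runKB R0A5 csA5) TA5 = true := by decide +kernel

theorem lenA5 : TA5.length = 60 := by decide +kernel

end CfsgLib.Present
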